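import Mathlib.CategoryTheory.Filtered.Basic
import Mathlib.CategoryTheory.Limits.Types.Colimits
import Mathlib.CategoryTheory.Limits.Types.Filtered
import Mathlib.Topology.Sheaves.SheafCondition.UniqueGluing
import Mathlib.Topology.Sheaves.Skyscraper
import Mathlib.Topology.Sheaves.Stalks

/-!
Sections of a directed colimit of sheaves of sets.
-/

set_option autoImplicit false

noncomputable section

open CategoryTheory CategoryTheory.Limits TopologicalSpace Opposite

namespace Groth.L14.ShSp.DirectedColimit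

universe u

variable {X : TopCat.{u}} {J : Type u} [Preorder J] [Nonempty J] [IsDirected J (· ≤ ·)]
  {F : J ⥤ X.Sheaf (Type u)} (c : Cocone F)

/-- Restriction of sections. -/
abbrev r (G : X.Sheaf (Type u)) {V U : Opens X} (h : V ≤ U) (s : G.1.obj (op U)) : G.1.obj (op V) :=
  G.1.map (homOfLE h).op s

/-- The transition maps. -/
abbrev T {i j : J} (h : i ≤ j) (U : Opens X) (s : (F.obj i).1.obj (op U)) : (F.obj j).1.obj (op U) :=
  (F.map (homOfLE h)).1.app (op U) s

/-- The maps to the colimit. -/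
abbrev ι (i : J) (U : Opens X) (s : (F.obj i).1.obj (op U)) : c.pt.1.obj (op U) :=
  (c.ι.app i).1.app (op U) s

theorem r_r (G : X.Sheaf (Type u)) {W V U : Opens X} (h : W ≤ V) (h' : V ≤ U) (s : G.1.obj (op U)) :
    r G h (r G h' s) = r G (h.trans h') s := by
  simp only [r, ← ConcreteCategory.comp_apply, ← G.1.map_comp, ← op_comp, homOfLE_comp]

theorem T_r {i j : J} (h : i ≤ j) {V U : Opens X} (h' : V ≤ U) (s : (F.obj i).1.obj (op U)) :
    T h V (r (F.obj i) h' s) = r (F.obj j) h' (T h U s) :=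
  NatTrans.naturality_apply (F.map (homOfLE h)).1 (homOfLE h').op s

theorem ι_r (i : J) {V U : Opens X} (h' : V ≤ U) (s : (F.obj i).1.obj (op U)) :
    ι c i V (r (F.obj i) h' s) = r c.pt h' (ι c i U s) :=
  NatTrans.naturality_apply (c.ι.app i).1 (homOfLE h').op s

theorem T_T {i j k : J} (h : i ≤ j) (h' : j ≤ k) (U : Opens X) (s : (F.obj i).1.obj (op U)) :
    T h' U (T h U s) = T (h.trans h') U s := by
  show _ = (F.map (homOfLE (h.trans h'))).1.app (op U) s
  rw [show homOfLE (h.trans h') = homOfLE h ≫ homOfLE h' from rfl, F.map_comp]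
  rfl

theorem ι_T {i j : J} (h : i ≤ j) (U : Opens X) (s : (F.obj i).1.obj (op U)) :
    ι c j U (T h U s) = ι c i U s := by
  conv_rhs => rw [ι, ← c.w (homOfLE h)]
  rfl

variable {c} (hc : IsColimit c)
include hc

theorem locInj {i : J} {U : Opens X} (a b : (F.obj i).1.obj (op U)) (hab : ι c i U a = ι c i U b)
    {x : X} (hx : x ∈ U) :
    ∃ (V : Opens X) (hV : V ≤ U), x ∈ V ∧ ∃ (j : J) (h : i ≤ j),
      T h V (r _ hV a) = T h V (r _ hV b) := by
  let st := TopCat.Sheaf.forget (Type u) X ⋙ TopCat.Presheaf.stalkFunctor (Type u) x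
  have hs : IsColimit (st.mapCocone c) := isColimitOfPreserves st hc
  have h1 : (st.mapCocone c).ι.app i (TopCat.Presheaf.germ (F.obj i).1 U x hx a) =
      (st.mapCocone c).ι.app i (TopCat.Presheaf.germ (F.obj i).1 U x hx b) := by
    show (TopCat.Presheaf.stalkFunctor _ x).map (c.ι.app i).1 _ =
      (TopCat.Presheaf.stalkFunctor _ x).map (c.ι.app i).1 _
    rw [TopCat.Presheaf.stalkFunctor_map_germ_apply, TopCat.Presheaf.stalkFunctor_map_germ_apply]
    exact congrArg _ hab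
  obtain ⟨j, f, hf⟩ := (Types.FilteredColimit.isColimit_eq_iff' hs _ _).mp h1
  have h2 : TopCat.Presheaf.germ (F.obj j).1 U x hx ((F.map f).1.app (op U) a) =
      TopCat.Presheaf.germ (F.obj j).1 U x hx ((F.map f).1.app (op U) b) := by
    rw [← TopCat.Presheaf.stalkFunctor_map_germ_apply, ← TopCat.Presheaf.stalkFunctor_map_germ_apply]
    exact hf
  obtain ⟨W, hxW, iU, iV, hW⟩ := TopCat.Presheaf.germ_eq (F.obj j).1 x hx hx _ _ h2
  refine ⟨W, iU.le, hxW, j, leOfHom f, ?_⟩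
  rw [T_r, T_r]
  exact hW

theorem locSurj {U : Opens X} (s : c.pt.1.obj (op U)) {x : X} (hx : x ∈ U) :
    ∃ (V : Opens X) (hV : V ≤ U), x ∈ V ∧ ∃ (i : J) (a : (F.obj i).1.obj (op V)),
      ι c i V a = r c.pt hV s := by
  let st := TopCat.Sheaf.forget (Type u) X ⋙ TopCat.Presheaf.stalkFunctor (Type u) x
  have hs : IsColimit (st.mapCocone c) := isColimitOfPreserves st hc
  obtain ⟨i, g, hg⟩ := Types.jointly_surjective _ hs (TopCat.Presheaf.germ c.pt.1 U x hx s)
  obtain ⟨W, hxW, t, ht⟩ := TopCat.Presheaf.exists_germ_eq (F.obj i).1 g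
  have h2 : TopCat.Presheaf.germ c.pt.1 W x hxW (ι c i W t) = TopCat.Presheaf.germ c.pt.1 U x hx s := by
    rw [← hg, ← ht]
    exact (TopCat.Presheaf.stalkFunctor_map_germ_apply W x hxW (c.ι.app i).1 t).symm
  obtain ⟨V, hxV, iW, iU, hV⟩ := TopCat.Presheaf.germ_eq c.pt.1 x hxW hx _ _ h2
  exact ⟨V, iU.le, hxV, i, r _ iW.le t, (ι_r c i iW.le t).trans hV⟩

theorem eq_of_injective
    (hF : ∀ (i j : J) (h : i ⟶ j) (V : Opens X), Function.Injective ((F.map h).1.app (op V)))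
    {i : J} {U : Opens X} (a b : (F.obj i).1.obj (op U)) (hab : ι c i U a = ι c i U b) : a = b := by
  choose V hV hxV j hj hT using fun x : U => locInj hc a b hab x.2
  refine TopCat.Sheaf.eq_of_locally_eq' (F.obj i) V U (fun x => homOfLE (hV x)) ?_ a b fun x => ?_
  · intro x hx; exact Opens.mem_iSup.mpr ⟨⟨x, hx⟩, hxV _⟩
  · exact hF _ _ _ _ (hT x)

theorem eq_of_compact {i : J} {U : Opens X} (hU : IsCompact (U : Set X))
    (a b : (F.obj i).1.obj (op U)) (hab : ι c i U a = ι c i U b) :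
    ∃ (k : J) (h : i ≤ k), T h U a = T h U b := by
  classical
  choose V hV hxV j hj hT using fun x : U => locInj hc a b hab x.2
  obtain ⟨t, ht⟩ := hU.elim_finite_subcover (fun x : U => (V x : Set X)) (fun x => (V x).isOpen)
    (fun x hx => Set.mem_iUnion.mpr ⟨⟨x, hx⟩, hxV _⟩)
  obtain ⟨k, hk⟩ := Finset.exists_le (insert i (t.image j))
  have hik : i ≤ k := hk i (Finset.mem_insert_self _ _)
  refine ⟨k, hik, ?_⟩
  refine TopCat.Sheaf.eq_of_locally_eq' (F.obj k) (fun x : {x // x ∈ t} => V x.1) U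
    (fun x => homOfLE (hV x.1)) ?_ _ _ fun x => ?_
  · intro x hx
    obtain ⟨y, hy, hy'⟩ := Set.mem_iUnion₂.mp (ht hx)
    exact Opens.mem_iSup.mpr ⟨⟨y, hy⟩, hy'⟩
  · have hjk : j x.1 ≤ k := hk _ (Finset.mem_insert_of_mem (Finset.mem_image_of_mem j x.2))
    show r (F.obj k) (hV x.1) (T hik U a) = r (F.obj k) (hV x.1) (T hik U b)
    rw [← T_r hik (hV x.1) a, ← T_r hik (hV x.1) b, ← T_T (hj x.1) hjk, ← T_T (hj x.1) hjk, hT x.1]

theorem exists_preimage {U : Opens X} (s : c.pt.1.obj (op U)) {L : Type u} [Fintype L]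
    (W : L → Opens X) (hW : ∀ l, W l ≤ U) (hcov : U ≤ ⨆ l, W l) (j : L → J)
    (a : ∀ l, (F.obj (j l)).1.obj (op (W l))) (ha : ∀ l, ι c (j l) (W l) (a l) = r c.pt (hW l) s)
    (sep : ∀ (l l' : L) (i : J) (u v : (F.obj i).1.obj (op (W l ⊓ W l'))),
      ι c i _ u = ι c i _ v → ∃ (k : J) (h : i ≤ k), T h _ u = T h _ v) :
    ∃ (i : J) (b : (F.obj i).1.obj (op U)), ι c i U b = s := by
  classical
  obtain ⟨k₀, hk₀⟩ := Finset.exists_le (Finset.univ.image j)
  have hj : ∀ l, j l ≤ k₀ := fun l => hk₀ _ (Finset.mem_image_of_mem j (Finset.mem_univ l))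
  have hagree : ∀ p : L × L, ∃ (k : J) (h : k₀ ≤ k),
      T h _ (r _ (inf_le_left : W p.1 ⊓ W p.2 ≤ W p.1) (T (hj p.1) _ (a p.1))) =
      T h _ (r _ (inf_le_right : W p.1 ⊓ W p.2 ≤ W p.2) (T (hj p.2) _ (a p.2))) := by
    intro p
    refine sep p.1 p.2 k₀ _ _ ?_
    rw [ι_r, ι_r, ι_T, ι_T, ha, ha, r_r, r_r]
  choose kk hkk hagree' using hagree
  obtain ⟨k, hk⟩ := Finset.exists_le (insert k₀ (Finset.univ.image kk))
  have h0 : k₀ ≤ k := hk k₀ (Finset.mem_insert_self _ _)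
  obtain ⟨b, hb, -⟩ := TopCat.Sheaf.existsUnique_gluing' (F.obj k) W U (fun l => homOfLE (hW l)) hcov
    (fun l => T ((hj l).trans h0) _ (a l)) (fun l l' => by
      have hkp : kk (l, l') ≤ k :=
        hk _ (Finset.mem_insert_of_mem (Finset.mem_image_of_mem kk (Finset.mem_univ _)))
      show r _ (inf_le_left : W l ⊓ W l' ≤ W l) _ = r _ (inf_le_right : W l ⊓ W l' ≤ W l') _
      have h3 := congrArg (T hkp _) (hagree' (l, l'))
      simp only [T_r, T_T] at h3
      exact h3)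
  refine ⟨k, b, TopCat.Sheaf.eq_of_locally_eq' c.pt W U (fun l => homOfLE (hW l)) hcov _ _ fun l => ?_⟩
  show r c.pt (hW l) _ = r c.pt (hW l) s
  rw [← ι_r, ← ha l]
  exact (congrArg (ι c k (W l)) (hb l)).trans (ι_T c _ _ _)

theorem main (U : Opens X) :
    let ev := TopCat.Sheaf.forget (Type u) X ⋙ (evaluation (Opens X)ᵒᵖ (Type u)).obj (op U)
    let Ψ : colimit (F ⋙ ev) → ev.obj c.pt := colimit.desc (F ⋙ ev) (ev.mapCocone c)
    ((∀ (i j : J) (h : i ⟶ j) (V : Opens X), Function.Injective ((F.map h).1.app (op V))) → Function.Injective Ψ) ∧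
    (IsCompact (U : Set X) → Function.Injective Ψ) ∧
    (IsCompact (U : Set X) → (∀ (i j : J) (h : i ⟶ j) (V : Opens X), Function.Injective ((F.map h).1.app (op V))) →
      Function.Bijective Ψ) ∧
    ((∀ 𝒱 : Set (Opens X), (⨆ V ∈ 𝒱, V) = U →
        ∃ (m : ℕ) (W : Fin m → Opens X), (∀ j, ∃ V ∈ 𝒱, W j ≤ V) ∧ (⨆ j, W j) = U ∧
          ∀ j j', IsCompact ((W j ⊓ W j' : Opens X) : Set X)) →
      Function.Bijective Ψ) := by
  intro ev Ψ
  classical
  have hΨ : ∀ (i : J) (a : (F.obj i).1.obj (op U)), Ψ (colimit.ι (F ⋙ ev) i a) = ι c i U a :=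
    fun i a => ConcreteCategory.congr_hom (colimit.ι_desc (ev.mapCocone c) i) a
  have inj : (∀ i (a b : (F.obj i).1.obj (op U)), ι c i U a = ι c i U b →
      ∃ (k : J) (h : i ≤ k), T h U a = T h U b) → Function.Injective Ψ := by
    intro H p q hpq
    obtain ⟨i, a, rfl⟩ := Types.jointly_surjective' p
    obtain ⟨j, b, rfl⟩ := Types.jointly_surjective' q
    replace hpq : ι c i U a = ι c j U b := (hΨ i a).symm.trans (hpq.trans (hΨ j b))
    obtain ⟨m, him, hjm⟩ := exists_ge_ge i j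
    obtain ⟨k, hmk, hk⟩ := H m (T him U a) (T hjm U b)
      (((ι_T c him U a).trans hpq).trans (ι_T c hjm U b).symm)
    rw [Types.FilteredColimit.colimit_eq_iff]
    refine ⟨k, homOfLE (him.trans hmk), homOfLE (hjm.trans hmk), ?_⟩
    exact (T_T him hmk U a).symm.trans (hk.trans (T_T hjm hmk U b))
  have surj : (∀ s : c.pt.1.obj (op U), ∃ (i : J) (b : (F.obj i).1.obj (op U)), ι c i U b = s) →
      Function.Surjective Ψ := by
    intro H s
    obtain ⟨i, b, hb⟩ := H s
    exact ⟨colimit.ι (F ⋙ ev) i b, (hΨ i b).trans hb⟩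
  refine ⟨fun hF => inj fun i a b h => ⟨i, le_rfl, congrArg _ (eq_of_injective hc hF a b h)⟩,
    fun hU => inj fun i a b h => eq_of_compact hc hU a b h, fun hU hF => ⟨?_, surj fun s => ?_⟩,
    fun hcov => ⟨?_, surj fun s => ?_⟩⟩
  · exact inj fun i a b h => eq_of_compact hc hU a b h
  · choose V hV hxV j a ha using fun x : U => locSurj hc s x.2
    obtain ⟨t, ht⟩ := hU.elim_finite_subcover (fun x : U => (V x : Set X)) (fun x => (V x).isOpen)
      (fun x hx => Set.mem_iUnion.mpr ⟨⟨x, hx⟩, hxV _⟩)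
    refine exists_preimage hc s (L := {x // x ∈ t}) (fun l => V l.1) (fun l => hV l.1) ?_
      (fun l => j l.1) (fun l => a l.1) (fun l => ha l.1)
      (fun l l' i u v h => ⟨i, le_rfl, congrArg _ (eq_of_injective hc hF u v h)⟩)
    intro x hx
    obtain ⟨y, hy, hy'⟩ := Set.mem_iUnion₂.mp (ht hx)
    exact Opens.mem_iSup.mpr ⟨⟨y, hy⟩, hy'⟩
  · have hU : IsCompact (U : Set X) := by
      obtain ⟨m, W, -, hW, hWc⟩ := hcov {U} (by simp)
      have he : (U : Set X) = ⋃ l, ((W l ⊓ W l : Opens X) : Set X) := by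
        rw [← hW]; simp
      rw [he]
      exact isCompact_iUnion fun l => hWc l l
    exact inj fun i a b h => eq_of_compact hc hU a b h
  · let 𝒱 : Set (Opens X) :=
      {V | ∃ (hV : V ≤ U) (i : J) (a : (F.obj i).1.obj (op V)), ι c i V a = r c.pt hV s}
    have hsup : (⨆ V ∈ 𝒱, V) = U := by
      refine le_antisymm (iSup₂_le fun V hV => hV.1) fun x hx => ?_
      obtain ⟨V, hV, hxV, i, a, ha⟩ := locSurj hc s hx
      exact Opens.mem_iSup.mpr ⟨V, Opens.mem_iSup.mpr ⟨⟨hV, i, a, ha⟩, hxV⟩⟩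
    obtain ⟨m, W, href, hW, hWc⟩ := hcov 𝒱 hsup
    choose V hV𝒱 hle using href
    choose hVU j a ha using hV𝒱
    refine exists_preimage hc s (L := ULift.{u} (Fin m)) (fun l => W l.down)
      (fun l => (hle l.down).trans (hVU l.down)) ?_ (fun l => j l.down)
      (fun l => r _ (hle l.down) (a l.down)) (fun l => by rw [ι_r, ha, r_r])
      (fun l l' i u v h => eq_of_compact hc (hWc l.down l'.down) u v h)
    exact hW.ge.trans (iSup_le fun l => le_iSup (fun l : ULift.{u} (Fin m) => W l.down) (ULift.up l))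

end Groth.L14.ShSp.DirectedColimit
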